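import Mathlib

/-! # Kaplansky dévissage: a direct sum dévissage gives a direct sum decomposition -/

set_option autoImplicit false
universe u

namespace Groth.Agent.Lib.Helper2.Kap

variable {R : Type u} [CommRing R] {M : Type u} [AddCommGroup M] [Module R M]

/-- a complement of `A` in `B` is isomorphic to `B ⧸ A` -/
noncomputable def complEquiv (A B C : Submodule R M) (h1 : A ⊓ C = ⊥) (h2 : A ⊔ C = B) :
    ↥C ≃ₗ[R] ↥B ⧸ Submodule.comap B.subtype A := by
  have hCB : C ≤ B := h2 ▸ le_sup_right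
  refine LinearEquiv.ofBijective
    ((Submodule.mkQ (Submodule.comap B.subtype A)).comp (Submodule.inclusion hCB)) ⟨?_, ?_⟩
  · rw [← LinearMap.ker_eq_bot, LinearMap.ker_eq_bot']
    intro c hc
    rw [LinearMap.comp_apply, Submodule.mkQ_apply, Submodule.Quotient.mk_eq_zero] at hc
    have hcA : (c : M) ∈ A := hc
    have : (c : M) ∈ A ⊓ C := ⟨hcA, c.2⟩
    rw [h1, Submodule.mem_bot] at this
    exact Subtype.ext this
  · intro q
    obtain ⟨b, rfl⟩ := Submodule.Quotient.mk_surjective _ q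
    have hb : (b : M) ∈ A ⊔ C := h2 ▸ b.2
    obtain ⟨a, ha, c, hc, hac⟩ := Submodule.mem_sup.1 hb
    refine ⟨⟨c, hc⟩, ?_⟩
    rw [LinearMap.comp_apply, Submodule.mkQ_apply]
    rw [Submodule.Quotient.eq]
    change ((⟨c, hCB hc⟩ : B) - b : B).1 ∈ A
    have : ((⟨c, hCB hc⟩ : B) - b : B).1 = -a := by
      change c - (b : M) = -a
      rw [← hac]
      abel
    rw [this]
    exact A.neg_mem ha

variable {S : Type u} [LinearOrder S] [WellFoundedLT S] (Mf : S → Submodule R M)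

theorem le_iSup_compl (hmono : Monotone Mf)
    (hlim : ∀ s : S, Order.IsSuccPrelimit s → Mf s = ⨆ t : {t : S // t < s}, Mf t.1)
    (C : {p : S × S // p.1 ⋖ p.2} → Submodule R M)
    (hC2 : ∀ p, Mf p.1.1 ⊔ C p = Mf p.1.2) (t : S) : Mf t ≤ ⨆ p, C p := by
  induction t using WellFoundedLT.induction with
  | ind t ih =>
    by_cases ht : Order.IsSuccPrelimit t
    · rw [hlim t ht]
      exact iSup_le fun t' => ih t'.1 t'.2
    · rw [Order.not_isSuccPrelimit_iff_exists_covBy] at ht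
      obtain ⟨s, hst⟩ := ht
      rw [← hC2 ⟨(s, t), hst⟩]
      exact sup_le (ih s hst.lt) (le_iSup C ⟨(s, t), hst⟩)

theorem isInternal_compl [DecidableEq {p : S × S // p.1 ⋖ p.2}] (hmono : Monotone Mf)
    (hlim : ∀ s : S, Order.IsSuccPrelimit s → Mf s = ⨆ t : {t : S // t < s}, Mf t.1)
    (htop : (⨆ s, Mf s) = ⊤)
    (C : {p : S × S // p.1 ⋖ p.2} → Submodule R M)
    (hC1 : ∀ p, Mf p.1.1 ⊓ C p = ⊥)
    (hC2 : ∀ p, Mf p.1.1 ⊔ C p = Mf p.1.2) : DirectSum.IsInternal C := by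
  classical
  have hCle : ∀ p, C p ≤ Mf p.1.2 := fun p => hC2 p ▸ le_sup_right
  apply DirectSum.isInternal_submodule_of_iSupIndep_of_iSup_eq_top
  · apply iSupIndep_of_dfinsupp_lsum_injective
    rw [injective_iff_map_eq_zero]
    intro v hv
    by_contra hne
    have hsupp : v.support.Nonempty := by
      rw [Finset.nonempty_iff_ne_empty, Ne, DFinsupp.support_eq_empty]
      exact hne
    obtain ⟨p₀, hp₀, hmax⟩ := Finset.exists_max_image v.support (fun p => p.1.2) hsupp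
    have hsum : (DFinsupp.lsum ℕ fun i => (C i).subtype) v = ∑ p ∈ v.support, ((v p : C p) : M) := by
      rw [DFinsupp.lsum_apply_apply, DFinsupp.sumAddHom_apply]
      rfl
    rw [hsum, ← Finset.add_sum_erase _ _ hp₀] at hv
    have hrest : ∑ q ∈ v.support.erase p₀, ((v q : C q) : M) ∈ Mf p₀.1.1 := by
      apply Submodule.sum_mem
      intro q hq
      rw [Finset.mem_erase] at hq
      have hle : q.1.2 ≤ p₀.1.2 := hmax q hq.2
      have hne2 : q.1.2 ≠ p₀.1.2 := by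
        intro heq
        apply hq.1
        have h1 : q.1.1 = p₀.1.1 := (heq ▸ q.2 : q.1.1 ⋖ p₀.1.2).unique_left p₀.2
        exact Subtype.ext (Prod.ext h1 heq)
      have hlt : q.1.2 < p₀.1.2 := lt_of_le_of_ne hle hne2
      have hle2 : q.1.2 ≤ p₀.1.1 := p₀.2.le_of_lt hlt
      exact hmono hle2 (hCle q (v q).2)
    have hmem : ((v p₀ : C p₀) : M) ∈ Mf p₀.1.1 := by
      have : ((v p₀ : C p₀) : M) = -∑ q ∈ v.support.erase p₀, ((v q : C q) : M) :=
        eq_neg_of_add_eq_zero_left hv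
      rw [this]
      exact (Mf p₀.1.1).neg_mem hrest
    have h0 : ((v p₀ : C p₀) : M) ∈ Mf p₀.1.1 ⊓ C p₀ := ⟨hmem, (v p₀).2⟩
    rw [hC1, Submodule.mem_bot] at h0
    rw [DFinsupp.mem_support_iff] at hp₀
    exact hp₀ (Subtype.ext h0)
  · rw [eq_top_iff, ← htop]
    exact iSup_le fun t => le_iSup_compl Mf hmono hlim C hC2 t

theorem nonempty_linearEquiv (hmono : Monotone Mf)
    (hlim : ∀ s : S, Order.IsSuccPrelimit s → Mf s = ⨆ t : {t : S // t < s}, Mf t.1)
    (htop : (⨆ s, Mf s) = ⊤)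
    (hsplit : ∀ s t : S, s ⋖ t → ∃ C : Submodule R M, Mf s ⊓ C = ⊥ ∧ Mf s ⊔ C = Mf t) :
    Nonempty (M ≃ₗ[R] DirectSum {p : S × S // p.1 ⋖ p.2}
        fun p => ↥(Mf p.1.2) ⧸ Submodule.comap (Mf p.1.2).subtype (Mf p.1.1)) := by
  classical
  choose C hC1 hC2 using fun p : {p : S × S // p.1 ⋖ p.2} => hsplit p.1.1 p.1.2 p.2
  have hint := isInternal_compl Mf hmono hlim htop C hC1 hC2
  let e1 : (DirectSum _ fun p => ↥(C p)) ≃ₗ[R] M :=
    LinearEquiv.ofBijective (DirectSum.coeLinearMap C) hint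
  let e2 : (DirectSum {p : S × S // p.1 ⋖ p.2} fun p => ↥(C p)) ≃ₗ[R]
      DirectSum {p : S × S // p.1 ⋖ p.2}
        fun p => ↥(Mf p.1.2) ⧸ Submodule.comap (Mf p.1.2).subtype (Mf p.1.1) :=
    DFinsupp.mapRange.linearEquiv fun p => complEquiv (Mf p.1.1) (Mf p.1.2) (C p) (hC1 p) (hC2 p)
  exact ⟨e1.symm.trans e2⟩

end Groth.Agent.Lib.Helper2.Kap
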