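import Groth.Agent.Lib.Helper2.Kap.Basic
import Groth.Prelude.Def_Found

/-! # Kaplansky dévissage and direct sums of countably generated modules -/

set_option autoImplicit false
universe u
open scoped Classical

namespace Groth.Agent.Lib.Helper2.Kap

variable {R : Type u} [CommRing R] {M : Type u} [AddCommGroup M] [Module R M]

theorem isCountablyGenerated_of_equiv {A B : Type u} [AddCommGroup A] [Module R A]
    [AddCommGroup B] [Module R B] (e : A ≃ₗ[R] B) (h : CAlg.IsCountablyGenerated R A) :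
    CAlg.IsCountablyGenerated R B := by
  obtain ⟨s, hs, hspan⟩ := h
  refine ⟨e '' s, hs.image _, ?_⟩
  have : Submodule.span R (e '' s) = Submodule.map (e : A →ₗ[R] B) (Submodule.span R s) :=
    (Submodule.map_span (e : A →ₗ[R] B) s).symm
  rw [this, hspan, Submodule.map_top, LinearMap.range_eq_top]
  exact e.surjective

theorem exists_family_of_devissage
    (h : ∃ (S : Type u) (_ : LinearOrder S) (_ : WellFoundedLT S) (Mf : S → Submodule R M), Monotone Mf ∧
        (∀ s : S, Order.IsSuccPrelimit s → Mf s = ⨆ t : {t : S // t < s}, Mf t.1) ∧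
        (⨆ s, Mf s) = ⊤ ∧
        (∀ s t : S, s ⋖ t → ∃ C : Submodule R M, Mf s ⊓ C = ⊥ ∧ Mf s ⊔ C = Mf t ∧
          CAlg.IsCountablyGenerated R (↥(Mf t) ⧸ Submodule.comap (Mf t).subtype (Mf s)))) :
    ∃ (ι : Type u) (N : ι → Submodule R M), DirectSum.IsInternal N ∧
      ∀ i, CAlg.IsCountablyGenerated R (N i) := by
  obtain ⟨S, _, _, Mf, hmono, hlim, htop, hsplit⟩ := h
  choose C hC1 hC2 hC3 using fun p : {p : S × S // p.1 ⋖ p.2} => hsplit p.1.1 p.1.2 p.2
  refine ⟨{p : S × S // p.1 ⋖ p.2}, C,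
    @isInternal_compl R _ M _ _ S _ _ Mf (fun a b => Classical.propDecidable (a = b))
      hmono hlim htop C hC1 hC2, fun p => ?_⟩
  exact isCountablyGenerated_of_equiv
    (complEquiv (Mf p.1.1) (Mf p.1.2) (C p) (hC1 p) (hC2 p)).symm (hC3 p)

theorem exists_devissage_of_family
    (h : ∃ (ι : Type u) (N : ι → Submodule R M), DirectSum.IsInternal N ∧
      ∀ i, CAlg.IsCountablyGenerated R (N i)) :
    ∃ (S : Type u) (_ : LinearOrder S) (_ : WellFoundedLT S) (Mf : S → Submodule R M), Monotone Mf ∧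
        (∀ s : S, Order.IsSuccPrelimit s → Mf s = ⨆ t : {t : S // t < s}, Mf t.1) ∧
        (⨆ s, Mf s) = ⊤ ∧
        (∀ s t : S, s ⋖ t → ∃ C : Submodule R M, Mf s ⊓ C = ⊥ ∧ Mf s ⊔ C = Mf t ∧
          CAlg.IsCountablyGenerated R (↥(Mf t) ⧸ Submodule.comap (Mf t).subtype (Mf s))) := by
  obtain ⟨ι, N, hint, hcount⟩ := h
  have htopN : (⨆ i, N i) = ⊤ := hint.submodule_iSup_eq_top
  have hind : iSupIndep N := hint.submodule_iSupIndep
  obtain ⟨_, _⟩ := exists_wellFoundedLT ι
  let Mf : WithTop ι → Submodule R M := fun s => ⨆ (i : ι) (_ : (i : WithTop ι) < s), N i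
  have hmono : Monotone Mf := by
    intro s t hst
    exact iSup₂_le fun i hi => le_iSup₂_of_le i (lt_of_lt_of_le hi hst) le_rfl
  have hNle : ∀ (i : ι) (t : WithTop ι), (i : WithTop ι) < t → N i ≤ Mf t :=
    fun i t hit => le_iSup₂_of_le i hit le_rfl
  refine ⟨WithTop ι, inferInstance, inferInstance, Mf, hmono, ?_, ?_, ?_⟩
  · intro s hs
    apply le_antisymm
    · refine iSup₂_le fun i hi => ?_
      have hnc : ¬ ((i : WithTop ι) ⋖ s) := hs _
      rw [not_covBy_iff hi] at hnc
      obtain ⟨t, hit, hts⟩ := hnc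
      exact (hNle i t hit).trans (le_iSup (fun t : {t : WithTop ι // t < s} => Mf t.1) ⟨t, hts⟩)
    · exact iSup_le fun t => hmono t.2.le
  · rw [eq_top_iff, ← htopN]
    refine iSup_le fun i => ?_
    exact (hNle i ⊤ (WithTop.coe_lt_top i)).trans (le_iSup Mf ⊤)
  · intro s t hst
    have hsne : s ≠ ⊤ := ne_top_of_lt hst.lt
    obtain ⟨i, rfl⟩ := WithTop.ne_top_iff_exists.1 hsne
    have h1 : Mf (i : WithTop ι) ⊓ N i = ⊥ := by
      have hle : Mf (i : WithTop ι) ≤ ⨆ (j : ι) (_ : j ≠ i), N j := by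
        refine iSup₂_le fun j hj => ?_
        have hji : j < i := WithTop.coe_lt_coe.1 hj
        exact le_iSup₂_of_le j hji.ne le_rfl
      have hd : Disjoint (N i) (⨆ (j : ι) (_ : j ≠ i), N j) := hind i
      rw [inf_comm]
      exact (hd.mono_right hle).eq_bot
    have h2 : Mf (i : WithTop ι) ⊔ N i = Mf t := by
      apply le_antisymm
      · exact sup_le (hmono hst.lt.le) (hNle i t hst.lt)
      · refine iSup₂_le fun j hj => ?_
        have hji : (j : WithTop ι) ≤ (i : WithTop ι) := hst.le_of_lt hj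
        rcases hji.lt_or_eq with hlt | heq
        · exact (hNle j _ hlt).trans le_sup_left
        · have : j = i := WithTop.coe_injective heq
          subst this
          exact le_sup_right
    refine ⟨N i, h1, h2, ?_⟩
    exact isCountablyGenerated_of_equiv (complEquiv (Mf (i : WithTop ι)) (Mf t) (N i) h1 h2) (hcount i)

end Groth.Agent.Lib.Helper2.Kap
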